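import Groth.Agent.QReg.Basic
import Groth.Agent.DepthLib.RegularLocal

/-!
# Regular systems of parameters are quasi-regular; initial forms in a regular local ring
-/

universe u

namespace Groth.Agent.QReg

open RingTheory.Sequence IsLocalRing

theorem exists_list_regular_generators (n : ℕ) : ∀ (R : Type u) [CommRing R] [IsRegularLocalRing R],
    (maximalIdeal R).spanFinrank = n →
      ∃ l : List R, l.length = n ∧ IsWeaklyRegular R l ∧ Ideal.ofList l = maximalIdeal R := by
  induction n with
  | zero =>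
    intro R _ _ hn
    rw [Submodule.spanFinrank_eq_zero_iff_eq_bot (IsNoetherian.noetherian _)] at hn
    exact ⟨[], rfl, IsWeaklyRegular.nil R R, by rw [hn, Ideal.ofList_nil]⟩
  | succ n ih =>
    intro R _ _ hn
    obtain ⟨x, hx, hxmin, hreg, hnq⟩ := DepthLib.exists_regularLocal_quotient hn
    obtain ⟨l', hlen, hl', hspan⟩ := ih (R ⧸ Ideal.span {x}) hnq
    let l := l'.map (Function.surjInv Ideal.Quotient.mk_surjective)
    have hl : l.map (algebraMap R (R ⧸ Ideal.span {x})) = l' := by
      simp [l, List.map_map, Function.comp_def, Function.surjInv_eq]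
    refine ⟨x :: l, by simp [l, hlen], ?_, ?_⟩
    · have := DepthLib.isDomain_of_isRegularLocalRing R
      obtain ⟨q, hq⟩ := Ideal.nonempty_minimalPrimes (I := (⊥ : Ideal R)) bot_ne_top
      have hx0 : x ≠ 0 := fun h => hxmin q hq (by rw [h]; exact q.zero_mem)
      have e : QuotSMulTop x R ≃ₗ[R] R ⧸ Ideal.span {x} := Submodule.quotEquivOfEq _ _ (by
        rw [← Submodule.ideal_span_singleton_smul, smul_eq_mul, Ideal.mul_top])
      rw [isWeaklyRegular_cons_iff, e.isWeaklyRegular_congr,
        ← isWeaklyRegular_map_algebraMap_iff (R := R) (S := R ⧸ Ideal.span {x}) (M := R ⧸ Ideal.span {x}),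
        hl]
      exact ⟨fun a b h => mul_left_cancel₀ hx0 h, hl'⟩
    · rw [Ideal.ofList_cons]
      have h1 : (Ideal.ofList l).map (Ideal.Quotient.mk (Ideal.span {x})) =
          maximalIdeal (R ⧸ Ideal.span {x}) := by
        rw [Ideal.map_ofList, ← Ideal.Quotient.algebraMap_eq, hl, hspan]
      have h2 : (maximalIdeal (R ⧸ Ideal.span {x})).comap (Ideal.Quotient.mk (Ideal.span {x})) =
          maximalIdeal R :=
        eq_maximalIdeal (Ideal.comap_isMaximal_of_surjective _ Ideal.Quotient.mk_surjective)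
      rw [← h2, ← h1, Ideal.comap_map_of_surjective _ Ideal.Quotient.mk_surjective, ← RingHom.ker_eq_comap_bot,
        Ideal.mk_ker, sup_comm]

/-- A regular local ring has a quasi-regular system of parameters. -/
theorem exists_quasiRegular_parameters (R : Type u) [CommRing R] [IsRegularLocalRing R] :
    ∃ x : Fin (maximalIdeal R).spanFinrank → R, CAlgX.IsQuasiRegular x ∧
      Ideal.span (Set.range x) = maximalIdeal R := by
  obtain ⟨l, hlen, hl, hspan⟩ := exists_list_regular_generators _ R rfl
  rw [← hlen]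
  refine ⟨l.get, isQuasiRegular_of_isWeaklyRegular _ (by rwa [List.ofFn_get]), ?_⟩
  rw [← hspan]
  exact congrArg Ideal.span (by ext; simp [List.mem_iff_get])

open MvPolynomial

variable {A : Type u} [CommRing A] [IsLocalRing A] {d : ℕ}

/-- With a quasi-regular generating family of the maximal ideal, the leading form of a nonzero element. -/
theorem exists_form [IsNoetherianRing A] [IsDomain A] {x : Fin d → A}
    (hspan : Ideal.span (Set.range x) = maximalIdeal A) {a : A} (ha : a ≠ 0) :
    ∃ (n : ℕ) (F : MvPolynomial (Fin d) A), F.IsHomogeneous n ∧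
      map (residue A) F ≠ 0 ∧ eval x F = a := by
  classical
  have hex : ∃ n, a ∉ maximalIdeal A ^ (n + 1) := by
    by_contra hall
    push Not at hall
    have hb : a ∈ ⨅ i, maximalIdeal A ^ i := Submodule.mem_iInf _ |>.mpr fun i =>
      Ideal.pow_le_pow_right (Nat.le_succ i) (hall i)
    rw [Ideal.iInf_pow_eq_bot_of_isDomain _ (maximalIdeal.isMaximal A).ne_top] at hb
    exact ha hb
  have hmem : a ∈ maximalIdeal A ^ Nat.find hex := by
    cases h : Nat.find hex with
    | zero => simp
    | succ k => exact not_not.mp (Nat.find_min hex (show k < Nat.find hex by omega))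
  obtain ⟨F, hF, he⟩ := AdicLim.exists_isHomogeneous_eval x hspan hmem
  refine ⟨_, F, hF, fun h0 => Nat.find_spec hex ?_, he⟩
  refine (congrArg (· ∈ maximalIdeal A ^ (Nat.find hex + 1)) he).mp ?_
  refine eval_mem_pow_succ (fun i => hspan ▸ Ideal.subset_span (Set.mem_range_self i)) hF ?_
  exact (map_mk_eq_zero_iff _ _).mp h0

theorem eval_not_mem {x : Fin d → A} (hx : CAlgX.IsQuasiRegular x)
    (hspan : Ideal.span (Set.range x) = maximalIdeal A) {n : ℕ} {F : MvPolynomial (Fin d) A}
    (hF : F.IsHomogeneous n) (h0 : map (residue A) F ≠ 0) :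
    eval x F ∈ maximalIdeal A ^ n ∧ eval x F ∉ maximalIdeal A ^ (n + 1) := by
  refine ⟨eval_mem_pow (fun i => hspan ▸ Ideal.subset_span (Set.mem_range_self i)) hF, fun h => h0 ?_⟩
  rw [← hspan] at h
  refine (map_mk_eq_zero_iff _ _).mpr fun m => ?_
  rw [← hspan]
  exact hx n F hF h m

/-- The order of a product is the sum of the orders. -/
theorem mul_not_mem [IsNoetherianRing A] [IsDomain A] {x : Fin d → A} (hx : CAlgX.IsQuasiRegular x)
    (hspan : Ideal.span (Set.range x) = maximalIdeal A) {a b : A} {m n : ℕ}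
    (ha : a ∈ maximalIdeal A ^ m) (ha' : a ∉ maximalIdeal A ^ (m + 1))
    (hb : b ∈ maximalIdeal A ^ n) (hb' : b ∉ maximalIdeal A ^ (n + 1)) :
    a * b ∉ maximalIdeal A ^ (m + n + 1) := by
  obtain ⟨F, hF, rfl⟩ := AdicLim.exists_isHomogeneous_eval x hspan ha
  obtain ⟨G, hG, rfl⟩ := AdicLim.exists_isHomogeneous_eval x hspan hb
  have key : ∀ {k : ℕ} {H : MvPolynomial (Fin d) A}, H.IsHomogeneous k →
      eval x H ∉ maximalIdeal A ^ (k + 1) → map (residue A) H ≠ 0 := fun hH h h0 => h
    (eval_mem_pow_succ (fun i => hspan ▸ Ideal.subset_span (Set.mem_range_self i)) hH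
      ((map_mk_eq_zero_iff _ _).mp h0))
  rw [← map_mul]
  refine (eval_not_mem hx hspan (hF.mul hG) ?_).2
  rw [map_mul]
  exact mul_ne_zero (key hF ha') (key hG hb')

end Groth.Agent.QReg
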