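import Groth.Agent.QReg.Basic
import Mathlib.LinearAlgebra.Matrix.SemiringInverse

/-!
# Quasi-regularity depends only on the ideal and the length
-/

universe u

namespace Groth.Agent.QReg

open MvPolynomial

variable {R : Type u} [CommRing R]

theorem isQuasiRegular_of_span_eq {c : ℕ} (f f' : Fin c → R) (hf : CAlgX.IsQuasiRegular f)
    (h : Ideal.span (Set.range f') = Ideal.span (Set.range f)) : CAlgX.IsQuasiRegular f' := by
  classical
  set I := Ideal.span (Set.range f) with hI
  obtain ⟨C', hC⟩ : ∃ C' : Fin c → Fin c → R, ∀ i, ∑ j, C' i j * f j = f' i := by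
    have : ∀ i, f' i ∈ I := fun i => h ▸ Ideal.subset_span (Set.mem_range_self i)
    simp only [hI, Ideal.span, Submodule.mem_span_range_iff_exists_fun, smul_eq_mul] at this
    choose C' hC using this
    exact ⟨C', hC⟩
  obtain ⟨D, hD⟩ : ∃ D : Fin c → Fin c → R, ∀ j, ∑ i, D j i * f' i = f j := by
    have : ∀ j, f j ∈ Ideal.span (Set.range f') := fun j => h ▸ Ideal.subset_span (Set.mem_range_self j)
    simp only [Ideal.span, Submodule.mem_span_range_iff_exists_fun, smul_eq_mul] at this
    choose D hD using this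
    exact ⟨D, hD⟩
  set π := Ideal.Quotient.mk I
  have hDC : (Matrix.of D).map π * (Matrix.of C').map π = 1 := by
    rw [← Matrix.map_mul]
    ext j k
    set M := Matrix.of D * Matrix.of C' with hM
    have hfj : ∑ k, (M j k - (1 : Matrix (Fin c) (Fin c) R) j k) * f k = 0 := by
      simp only [sub_mul, Finset.sum_sub_distrib, Matrix.one_apply, ite_mul, one_mul, zero_mul,
        Finset.sum_ite_eq, Finset.mem_univ, if_true, sub_eq_zero, hM, Matrix.mul_apply, Matrix.of_apply,
        Finset.sum_mul]
      rw [Finset.sum_comm]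
      simp only [mul_assoc, ← Finset.mul_sum, hC, hD]
    have hP : (∑ k, C (M j k - (1 : Matrix (Fin c) (Fin c) R) j k) * X k).IsHomogeneous 1 :=
      IsHomogeneous.sum _ _ _ fun k _ => isHomogeneous_C_mul_X _ _
    have := hf 1 _ hP (by simp only [map_sum, map_mul, eval_C, eval_X, hfj]; exact zero_mem _)
      (Finsupp.single k 1)
    simp only [coeff_sum, coeff_C_mul, MvPolynomial.coeff_X, Finsupp.single_left_inj (one_ne_zero (α := ℕ))] at this
    simp only [mul_ite, mul_one, mul_zero, Finset.sum_ite_eq', Finset.mem_univ, if_true] at this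
    rw [Matrix.map_apply, Ideal.Quotient.eq.mpr this]
    rcases eq_or_ne j k with rfl | hjk
    · simp
    · simp [Matrix.one_apply_ne hjk]
  have hCD := mul_eq_one_comm.mp hDC
  rw [isQuasiRegular_iff, h]
  intro n P hP hPe
  let σ : MvPolynomial (Fin c) R →ₐ[R] MvPolynomial (Fin c) R := aeval fun i => ∑ j, C (C' i j) * X j
  let τ : MvPolynomial (Fin c) R →ₐ[R] MvPolynomial (Fin c) R := aeval fun j => ∑ i, C (D j i) * X i
  have hσ : eval f (σ P) = eval f' P := by
    rw [← aeval_eq_eval f, ← AlgHom.comp_apply, comp_aeval]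
    simp only [map_sum, map_mul, aeval_C, aeval_X, Algebra.algebraMap_self, RingHom.id_apply, hC]
    rfl
  have h0 : map π (σ P) = 0 := (map_mk_eq_zero_iff _ _).mpr
    (hf n (σ P) (by simpa using hP.aeval (n := 1) _ fun i =>
      IsHomogeneous.sum _ _ _ fun j _ => isHomogeneous_C_mul_X _ _) (by rw [hσ]; exact hPe))
  have h1 : (map π).comp (τ.comp σ).toRingHom = map π := by
    refine ringHom_ext (fun r => by simp [σ, τ]) fun i => ?_
    simp only [RingHom.comp_apply, AlgHom.toRingHom_eq_coe, RingHom.coe_coe, AlgHom.comp_apply, σ, τ,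
      aeval_X, map_sum, map_mul, aeval_C, algebraMap_eq, map_C, map_X, Finset.mul_sum]
    rw [Finset.sum_comm, Finset.sum_eq_single i]
    · have hii := congrFun (congrFun hCD i) i
      simp only [Matrix.mul_apply, Matrix.map_apply, Matrix.of_apply, Matrix.one_apply_eq] at hii
      simp only [← mul_assoc, ← Finset.sum_mul, ← MvPolynomial.C_mul, ← map_sum (MvPolynomial.C (σ := Fin c)), hii]
      simp
    · intro k _ hk
      have hik := congrFun (congrFun hCD i) k
      simp only [Matrix.mul_apply, Matrix.map_apply, Matrix.of_apply, Matrix.one_apply_ne (Ne.symm hk)] at hik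
      simp only [← mul_assoc, ← Finset.sum_mul, ← MvPolynomial.C_mul, ← map_sum (MvPolynomial.C (σ := Fin c)), hik]
      simp
    · simp
  have h2 : map π (τ (σ P)) = map π P := RingHom.congr_fun h1 P
  rw [← h2]
  have h3 : ∀ Q, map π Q = 0 → map π (τ Q) = 0 := by
    intro Q hQ
    rw [← RingHom.mem_ker] at hQ ⊢
    rw [ker_map] at hQ ⊢
    rw [show π = Ideal.Quotient.mk I from rfl, Ideal.mk_ker] at hQ ⊢
    have : Ideal.map (C : R →+* MvPolynomial (Fin c) R) I ≤
        (Ideal.map (C : R →+* MvPolynomial (Fin c) R) I).comap τ.toRingHom := by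
      rw [Ideal.map_le_iff_le_comap]
      intro a ha
      simp only [Ideal.mem_comap, AlgHom.toRingHom_eq_coe, RingHom.coe_coe, τ, aeval_C, algebraMap_eq]
      exact Ideal.mem_map_of_mem _ ha
    exact this hQ
  exact h3 _ h0

end Groth.Agent.QReg
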