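import Groth.Prelude.Def_CAlgX
import Mathlib.RingTheory.Regular.RegularSequence
import Mathlib.RingTheory.MvPolynomial.Homogeneous
import Groth.Agent.AdicLim.Noetherian

/-!
# Weakly regular sequences are quasi-regular
-/

universe u

namespace Groth.Agent.QReg

open MvPolynomial

variable {R : Type u} [CommRing R]

theorem map_mk_eq_zero_iff {σ : Type*} (I : Ideal R) (P : MvPolynomial σ R) :
    map (Ideal.Quotient.mk I) P = 0 ↔ ∀ d, P.coeff d ∈ I := by
  simp [MvPolynomial.ext_iff, coeff_map, Ideal.Quotient.eq_zero_iff_mem]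

theorem isQuasiRegular_iff {c : ℕ} (f : Fin c → R) :
    CAlgX.IsQuasiRegular f ↔ ∀ (n : ℕ) (P : MvPolynomial (Fin c) R), P.IsHomogeneous n →
      eval f P ∈ Ideal.span (Set.range f) ^ (n + 1) →
        map (Ideal.Quotient.mk (Ideal.span (Set.range f))) P = 0 := by
  simp only [CAlgX.IsQuasiRegular, map_mk_eq_zero_iff]

theorem eval_mem_pow {σ : Type*} {f : σ → R} {I : Ideal R} (hI : ∀ i, f i ∈ I) {n : ℕ}
    {P : MvPolynomial σ R} (hP : P.IsHomogeneous n) : eval f P ∈ I ^ n := by
  rw [eval_eq]
  refine Ideal.sum_mem _ fun m hm => Ideal.mul_mem_left _ _ ?_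
  rw [hP.degree_eq_sum_deg_support hm, ← Finset.prod_pow_eq_pow_sum]
  exact Ideal.prod_mem_prod fun i _ => Ideal.pow_mem_pow (hI i) _

theorem eval_mem_pow_succ {σ : Type*} {f : σ → R} {I : Ideal R} (hI : ∀ i, f i ∈ I) {n : ℕ}
    {P : MvPolynomial σ R} (hP : P.IsHomogeneous n) (h : ∀ d, P.coeff d ∈ I) :
    eval f P ∈ I ^ (n + 1) := by
  rw [eval_eq, pow_succ']
  refine Ideal.sum_mem _ fun m hm => Ideal.mul_mem_mul (h m) ?_
  rw [hP.degree_eq_sum_deg_support hm, ← Finset.prod_pow_eq_pow_sum]
  exact Ideal.prod_mem_prod fun i _ => Ideal.pow_mem_pow (hI i) _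

theorem sup_span_singleton_pow_le (J : Ideal R) (x : R) (n : ℕ) :
    (J ⊔ Ideal.span {x}) ^ (n + 1) ≤ J ^ (n + 1) ⊔ Ideal.span {x} * (J ⊔ Ideal.span {x}) ^ n := by
  induction n with
  | zero => simp
  | succ n ih =>
    rw [pow_succ _ (n + 1)]
    refine (mul_le_mul' ih le_rfl).trans ?_
    rw [Ideal.sup_mul, Ideal.mul_sup, mul_assoc (Ideal.span {x}) _ _, ← pow_succ, ← pow_succ (n := n)]
    refine sup_le (sup_le le_sup_left (le_sup_of_le_right ?_)) le_sup_right
    rw [mul_comm]
    exact mul_le_mul' le_rfl (Ideal.pow_right_mono le_sup_left _)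

/-- If `g` is quasi-regular and `x` is regular modulo `J = (g)`, then `x` is regular modulo `J ^ j`. -/
theorem mem_pow_of_mul_mem_pow {c : ℕ} {g : Fin c → R} (hg : CAlgX.IsQuasiRegular g) {x : R}
    (hx : ∀ a, x * a ∈ Ideal.span (Set.range g) → a ∈ Ideal.span (Set.range g)) (j : ℕ) :
    ∀ a, x * a ∈ Ideal.span (Set.range g) ^ j → a ∈ Ideal.span (Set.range g) ^ j := by
  induction j with
  | zero => intro a _; simp
  | succ j ih =>
    intro a ha
    obtain ⟨P, hP, rfl⟩ := AdicLim.exists_isHomogeneous_eval g rfl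
      (ih a (Ideal.pow_le_pow_right (Nat.le_succ j) ha))
    have hc := hg j (C x * P) (hP.C_mul x) (by rwa [map_mul, eval_C])
    refine eval_mem_pow_succ (fun i => Ideal.subset_span (Set.mem_range_self i)) hP fun d => hx _ ?_
    simpa [coeff_C_mul] using hc d

/-- Decomposition of a homogeneous polynomial along its last variable. -/
theorem exists_decomp {c n : ℕ} {P : MvPolynomial (Fin (c + 1)) R} (hP : P.IsHomogeneous (n + 1)) :
    ∃ (G : MvPolynomial (Fin c) R) (H : MvPolynomial (Fin (c + 1)) R), G.IsHomogeneous (n + 1) ∧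
      H.IsHomogeneous n ∧ P = rename Fin.castSucc G + X (Fin.last c) * H := by
  classical
  have key : ∀ Q : MvPolynomial (Fin (c + 1)) R, ∃ H,
      Q = rename Fin.castSucc (aeval (Fin.snoc (X (R := R) (σ := Fin c)) 0) Q) + X (Fin.last c) * H := by
    intro Q
    induction Q using MvPolynomial.induction_on with
    | C a => exact ⟨0, by simp⟩
    | add p q hp hq =>
      obtain ⟨Hp, hp⟩ := hp
      obtain ⟨Hq, hq⟩ := hq
      exact ⟨Hp + Hq, by rw [map_add, map_add]; linear_combination hp + hq⟩
    | mul_X p i hp =>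
      obtain ⟨Hp, hp⟩ := hp
      induction i using Fin.lastCases with
      | last => exact ⟨p, by simp [mul_comm]⟩
      | cast i =>
        refine ⟨Hp * X i.castSucc, ?_⟩
        rw [map_mul, map_mul, aeval_X, Fin.snoc_castSucc, rename_X]
        linear_combination (X i.castSucc) * hp
  obtain ⟨H, hH⟩ := key P
  have hG : (aeval (Fin.snoc (X (R := R) (σ := Fin c)) 0) P).IsHomogeneous (n + 1) := by
    simpa using hP.aeval (n := 1) (Fin.snoc (X (R := R) (σ := Fin c)) 0) fun i => by
      induction i using Fin.lastCases with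
      | last => simpa using isHomogeneous_zero _ _ _
      | cast i => simpa using isHomogeneous_X _ _
  refine ⟨_, H, hG, ?_, hH⟩
  have hXH : (X (Fin.last c) * H).IsHomogeneous (n + 1) := by
    have := hP.sub (hG.rename_isHomogeneous (f := Fin.castSucc))
    rwa [show P - rename Fin.castSucc _ = X (Fin.last c) * H from sub_eq_iff_eq_add'.mpr hH] at this
  intro d hd
  have h' := hXH (d := Finsupp.single (Fin.last c) 1 + d) (by rwa [coeff_X_mul])
  simp only [map_add, Finsupp.weight_single, Pi.one_apply, one_smul] at h'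
  show (Finsupp.weight 1) d = n
  omega

/-- Adding an element regular modulo a quasi-regular sequence keeps it quasi-regular. -/
theorem isQuasiRegular_snoc {c : ℕ} {f : Fin (c + 1) → R}
    (hg : CAlgX.IsQuasiRegular (f ∘ Fin.castSucc))
    (hx : ∀ a, f (Fin.last c) * a ∈ Ideal.span (Set.range (f ∘ Fin.castSucc)) →
      a ∈ Ideal.span (Set.range (f ∘ Fin.castSucc))) :
    CAlgX.IsQuasiRegular f := by
  set g := f ∘ Fin.castSucc with hgdef
  set x := f (Fin.last c) with hxdef
  set I := Ideal.span (Set.range f) with hIdef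
  set J := Ideal.span (Set.range g) with hJdef
  have hJI : J ≤ I := Ideal.span_mono (Set.range_comp_subset_range _ _)
  have hI : I = J ⊔ Ideal.span {x} := by
    refine le_antisymm (Ideal.span_le.mpr ?_) (sup_le hJI (Ideal.span_mono (by simp [hxdef])))
    rintro _ ⟨i, rfl⟩
    induction i using Fin.lastCases with
    | last => exact Ideal.mem_sup_right (Ideal.mem_span_singleton_self x)
    | cast i => exact Ideal.mem_sup_left (Ideal.subset_span ⟨i, rfl⟩)
  have hxI : x ∈ I := Ideal.subset_span ⟨_, rfl⟩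
  rw [isQuasiRegular_iff]
  intro n
  induction n with
  | zero =>
    intro P hP h
    obtain ⟨a, rfl⟩ : ∃ a, P = C a := ⟨P.coeff 0, (totalDegree_eq_zero_iff_eq_C.mp
      (Nat.le_zero.mp hP.totalDegree_le))⟩
    rw [map_C, map_eq_zero_iff _ (C_injective _ _), Ideal.Quotient.eq_zero_iff_mem]
    simpa using h
  | succ n ih =>
    intro P hP h
    obtain ⟨G, H, hG, hH, rfl⟩ := exists_decomp hP
    rw [map_add, map_mul, eval_rename, eval_X, ← hgdef, ← hxdef] at h
    have h1 : eval g G + x * eval f H ∈ J ^ (n + 1 + 1) ⊔ Ideal.span {x} * I ^ (n + 1) := by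
      have := sup_span_singleton_pow_le J x (n + 1)
      rw [← hI] at this
      exact this h
    obtain ⟨w, hw, z', hz', hwz⟩ := Submodule.mem_sup.mp h1
    obtain ⟨z, hz, rfl⟩ := Ideal.mem_span_singleton_mul.mp hz'
    have hgJ : eval g G ∈ J ^ (n + 1) := eval_mem_pow (fun i => Ideal.subset_span (Set.mem_range_self i)) hG
    have h2 : x * (eval f H - z) ∈ J ^ (n + 1) := by
      have e : x * (eval f H - z) = w - eval g G := by linear_combination -hwz
      rw [e]
      exact sub_mem (Ideal.pow_le_pow_right (Nat.le_succ _) hw) hgJ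
    have h3 : eval f H - z ∈ J ^ (n + 1) := mem_pow_of_mul_mem_pow hg hx _ _ h2
    have hH0 := ih H hH (by simpa using add_mem (Ideal.pow_right_mono hJI _ h3) hz)
    obtain ⟨K, hK, hKe⟩ := AdicLim.exists_isHomogeneous_eval g rfl h3
    have hG0 := hg (n + 1) (G + C x * K) (hG.add (hK.C_mul x)) (by
      have e : eval g (G + C x * K) = w := by
        rw [map_add, map_mul, eval_C, hKe]; linear_combination -hwz
      rw [e]; exact hw)
    have hG1 : map (Ideal.Quotient.mk I) G = 0 := by
      rw [map_mk_eq_zero_iff]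
      intro d
      have e := hJI (hG0 d)
      rw [coeff_add, coeff_C_mul] at e
      exact (Ideal.add_mem_iff_left _ (Ideal.mul_mem_right _ _ hxI)).mp e
    rw [map_add, map_mul, map_rename, hG1, hH0]
    simp

theorem isQuasiRegular_of_isWeaklyRegular : ∀ {c : ℕ} (f : Fin c → R),
    RingTheory.Sequence.IsWeaklyRegular R (List.ofFn f) → CAlgX.IsQuasiRegular f := by
  intro c
  induction c with
  | zero =>
    intro f _
    rw [isQuasiRegular_iff]
    intro n P hP h
    rw [map_mk_eq_zero_iff]
    intro d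
    by_cases hn : n = 0
    · subst hn
      rw [eq_C_of_isEmpty P, eval_C] at h
      rw [Subsingleton.elim d 0]
      simpa using h
    · rw [hP.coeff_eq_zero (by simp [Subsingleton.elim d 0, Ne.symm hn])]
      exact zero_mem _
  | succ c ih =>
    intro f hf
    rw [List.ofFn_succ', List.concat_eq_append, RingTheory.Sequence.isWeaklyRegular_append_iff,
      RingTheory.Sequence.isWeaklyRegular_singleton_iff] at hf
    refine isQuasiRegular_snoc (ih _ hf.1) fun a ha => ?_
    have hJ : (Ideal.ofList (List.ofFn fun i => f i.castSucc) • ⊤ : Submodule R R) =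
        Ideal.span (Set.range (f ∘ Fin.castSucc)) := by
      rw [smul_eq_mul, Ideal.mul_top]
      exact congrArg Ideal.span (by ext; simp [List.mem_ofFn])
    have h2 := hf.2
    rw [hJ] at h2
    rw [← Submodule.Quotient.mk_eq_zero] at ha ⊢
    refine h2 ?_
    show f (Fin.last c) • (Submodule.Quotient.mk a : R ⧸ _) = f (Fin.last c) • (0 : R ⧸ _)
    rw [smul_zero, ← Submodule.Quotient.mk_smul, smul_eq_mul, ha]

end Groth.Agent.QReg
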